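import Mathlib
import Cfsg.Agent.Lib.Helper81.CS3.NGDefs
import Cfsg.Agent.Lib.Helper91.CS3.Str

/-!
# CS3 (S4284), part NG, package [NC]: `A_b` is not central
-/

set_option autoImplicit false

namespace Cfsg.Agent.Lib.Helper91.CS3

open Cfsg.Agent.Lib.Helper81.CS3

universe u

theorem pkgNC (hStr : PkgStr.{u}) (hMelt : PkgMelt.{u}) (hSyl : PkgSyl.{u}) : PkgNC.{u} := by
  intro G _ _ m n hyp hng s b hPM
  have hs : s.Prime := hPM.1
  have hsm : s ∣ m := hPM.2.1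
  by_contra hcon
  push Not at hcon
  obtain ⟨x, r, k, hr, hrm, hxk, hxidx⟩ := hMelt m n hyp hng
  have hrs : r ≠ s := by
    rintro rfl
    exact hrm hsm
  have hxcop : (orderOf x).Coprime s := by
    rw [hxk]
    exact Nat.Coprime.pow_left k ((Nat.coprime_primes hr hs).mpr hrs)
  have hm1 : 1 < m := hyp.2.1
  have hn1 : 1 < n := hyp.2.2.1
  have hxnc : x ∉ Subgroup.center G := by
    intro hxc
    have h1 : idx x = 1 := by
      rw [Subgroup.index_eq_one, eq_top_iff]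
      intro g _
      exact (str_mem_cent g x).mpr (Subgroup.mem_center_iff.mp hxc g)
    omega
  obtain ⟨b0, hPM0, hb0x⟩ := hSyl m n hyp s hs hsm x
  obtain ⟨-, Sb, Ab, -, hAb, -, hcard, ⟨j, hj⟩, hcop⟩ := hStr m n hyp hng s b hPM
  obtain ⟨-, Sb0, Ab0, -, hAb0, -, hcard0, ⟨j0, hj0⟩, hcop0⟩ := hStr m n hyp hng s b0 hPM0
  have hxAb0 : x ∈ Ab0 := (hAb0 x).mpr ⟨hb0x.symm, hxcop⟩
  have hle : Ab ≤ Ab0 := by
    intro u hu
    obtain ⟨hub, huc⟩ := (hAb u).mp hu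
    have huz := hcon u hub huc
    exact (hAb0 u).mpr ⟨(Subgroup.mem_center_iff.mp huz b0).symm, huc⟩
  have hmn : 0 < m * n := by positivity
  have heq : s ^ j * Nat.card Ab = s ^ j0 * Nat.card Ab0 := by
    rw [← hj, ← hj0]
    exact Nat.eq_of_mul_eq_mul_right hmn (hcard.trans hcard0.symm)
  have hcardeq : Nat.card Ab0 ≤ Nat.card Ab := by
    have hd1 : s ^ j ∣ s ^ j0 :=
      (Nat.Coprime.pow_left j hcop0.symm).dvd_of_dvd_mul_right ⟨Nat.card Ab, heq.symm⟩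
    have hd2 : s ^ j0 ∣ s ^ j :=
      (Nat.Coprime.pow_left j0 hcop.symm).dvd_of_dvd_mul_right ⟨Nat.card Ab0, heq⟩
    have hpow : s ^ j = s ^ j0 := Nat.dvd_antisymm hd1 hd2
    rw [hpow] at heq
    exact (Nat.eq_of_mul_eq_mul_left (pow_pos hs.pos j0) heq).ge
  have hAbeq : Ab = Ab0 := Subgroup.eq_of_le_of_card_ge hle hcardeq
  have hxAb : x ∈ Ab := by
    rw [hAbeq]; exact hxAb0
  obtain ⟨hxb, -⟩ := (hAb x).mp hxAb
  exact hxnc (hcon x hxb hxcop)

end Cfsg.Agent.Lib.Helper91.CS3
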